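import Cfsg.Agent.S0496
import Cfsg.Agent.HallHigman.Drop
import Cfsg.Agent.Components.Cores
import Cfsg.Agent.CITExt.Almost
import Cfsg.Agent.Classical.Misc.SixtyGroup

/-!
A group of order 1920 with a central involution and centralisers of elements of order five of order dividing 30.
-/

set_option autoImplicit false
set_option linter.unusedSectionVars false
set_option linter.style.haveILetI false
set_option maxRecDepth 10000

namespace Cfsg.Lib.J3Order

open Subgroup Cfsg.Lib.Components Cfsg.Lib.Classical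
open scoped commutatorElement

universe u

variable {C : Type u} [Group C] [Finite C]

theorem card_mul_of_sup_eq_top {H M : Subgroup C} [M.Normal] (h : H ⊔ M = ⊤) :
    Nat.card C * Nat.card ↥(H ⊓ M) = Nat.card H * Nat.card M := by
  have h2 : (⊥ : Subgroup C).relIndex (H ⊓ M) * (H ⊓ M).relIndex H = (⊥ : Subgroup C).relIndex H :=
    relIndex_mul_relIndex _ _ _ bot_le inf_le_left
  rw [relIndex_bot_left, relIndex_bot_left, inf_relIndex_left] at h2
  rw [← relIndex_sup_left, sup_comm, h, relIndex_top_right] at h2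
  rw [← M.card_mul_index, ← h2]
  ring

theorem zmod_three_fifth : ∀ a : ZMod 3, a ^ 5 = 1 → a = 1 := by decide

/-- The hypothesis. -/
structure FiveHyp (C : Type u) [Group C] (z : C) : Prop where
  card : Nat.card C = 1920
  invol : orderOf z = 2
  central : ∀ g : C, g * z = z * g
  cent : ∀ f : C, orderOf f = 5 → Nat.card ↥(centralizer ({f} : Set C)) ∣ 30
  norm : ∀ f : C, orderOf f = 5 → Nat.card ↥(normalizer (zpowers f : Set C)) ∣ 60

variable {z : C} (H : FiveHyp C z)
include H

theorem exists_five : ∃ f : C, orderOf f = 5 := by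
  haveI : Fact (Nat.Prime 5) := ⟨by norm_num⟩
  exact exists_prime_orderOf_dvd_card' 5 (by rw [H.card]; norm_num)

theorem order_fz {f : C} (hf : orderOf f = 5) : orderOf (f * z) = 10 := by
  rw [(show Commute f z from H.central f).orderOf_mul_eq_mul_orderOf_of_coprime (by rw [hf, H.invol]; norm_num),
    hf, H.invol]

theorem card_norm_five {f : C} (hf : orderOf f = 5) :
    Nat.card ↥(normalizer (zpowers f : Set C)) = 20 ∧ Nat.card ↥(centralizer ({f} : Set C)) = 10 := by
  haveI : Fact (Nat.Prime 5) := ⟨by norm_num⟩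
  have h10 : 10 ∣ Nat.card ↥(centralizer ({f} : Set C)) := by
    rw [← order_fz H hf]
    refine (Nat.card_zpowers (f * z)) ▸ Subgroup.card_dvd_of_le (zpowers_le.2 ?_)
    rw [mem_centralizer_singleton_iff, mul_assoc, ← H.central f, ← mul_assoc]
  have hle : centralizer ({f} : Set C) ≤ normalizer (zpowers f : Set C) := fun g hg => by
    rw [mem_centralizer_singleton_iff] at hg
    rw [mem_normalizer_iff]
    intro x
    constructor <;> intro hx <;> obtain ⟨i, hi⟩ := mem_zpowers_iff.1 hx <;> refine mem_zpowers_iff.2 ⟨i, ?_⟩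
    · rw [← hi, ((show Commute g f from hg).zpow_right i).eq, mul_inv_cancel_right]
    · have hc := ((show Commute g f from hg).inv_left.zpow_right i).eq
      calc f ^ i = g⁻¹ * f ^ i * g := by rw [hc, mul_assoc, inv_mul_cancel, mul_one]
        _ = g⁻¹ * (g * x * g⁻¹) * g := by rw [hi]
        _ = x := by group
  have hN10 : 10 ∣ Nat.card ↥(normalizer (zpowers f : Set C)) := h10.trans (Subgroup.card_dvd_of_le hle)
  have hsyl : Nat.card ↥(zpowers f) = 5 ^ (Nat.card C).factorization 5 := by
    rw [Nat.card_zpowers, hf, H.card, show (1920 : ℕ) = 5 ^ 1 * 384 by norm_num,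
      Nat.factorization_mul (by norm_num) (by norm_num), Nat.Prime.factorization_pow (by norm_num)]
    simp [Nat.factorization_eq_zero_of_not_dvd (show ¬ 5 ∣ 384 by norm_num)]
  let P : Sylow 5 C := Sylow.ofCard (zpowers f) hsyl
  have hn := card_sylow_modEq_one 5 C
  rw [P.card_eq_index_normalizer] at hn
  have hidx := (normalizer (zpowers f : Set C)).card_mul_index
  rw [H.card] at hidx
  change (normalizer (zpowers f : Set C)).index % 5 = 1 % 5 at hn
  have hdiv := H.norm f hf
  have h20 : Nat.card ↥(normalizer (zpowers f : Set C)) = 20 := by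
    obtain ⟨c, hc⟩ := hN10
    rw [hc] at hidx hdiv ⊢
    have hc6 : c ∣ 6 := Nat.dvd_of_mul_dvd_mul_left (by norm_num : 0 < 10) hdiv
    have := Nat.le_of_dvd (by norm_num) hc6
    interval_cases c <;> simp_all <;> omega
  refine ⟨h20, ?_⟩
  obtain ⟨c, hc⟩ := h10
  have h1 := H.cent f hf
  have h2 := Subgroup.card_dvd_of_le hle
  rw [hc] at h1 h2 ⊢
  rw [h20] at h2
  have h3 : c ∣ 3 := Nat.dvd_of_mul_dvd_mul_left (by norm_num : 0 < 10) h1
  have h4 : c ∣ 2 := Nat.dvd_of_mul_dvd_mul_left (by norm_num : 0 < 10) h2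
  have := Nat.dvd_gcd h3 h4
  rw [show Nat.gcd 3 2 = 1 from rfl, Nat.dvd_one] at this
  omega

theorem centralizer_five {f : C} (hf : orderOf f = 5) : centralizer ({f} : Set C) = zpowers (f * z) := by
  symm
  refine Subgroup.eq_of_le_of_card_ge (zpowers_le.2 ?_) ?_
  · rw [mem_centralizer_singleton_iff, mul_assoc, ← H.central f, ← mul_assoc]
  · rw [(card_norm_five H hf).2, Nat.card_zpowers, order_fz H hf]

theorem z_mem_core : z ∈ pCore 2 C := by
  haveI : Fact (Nat.Prime 2) := ⟨Nat.prime_two⟩
  haveI : (zpowers z).Normal := ⟨fun x hx g => by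
    obtain ⟨i, rfl⟩ := mem_zpowers_iff.1 hx
    rw [((show Commute g z from H.central g).zpow_right i).eq, mul_inv_cancel_right]
    exact zpow_mem (mem_zpowers z) i⟩
  exact le_pCore (IsPGroup.of_card (n := 1) (by rw [Nat.card_zpowers, H.invol]; norm_num)) (mem_zpowers z)

/-- the fixed points of an element of order five on a 2-subgroup -/
theorem fixed_five {R : Subgroup C} (hR : IsPGroup 2 R) {f r : C} (hf : orderOf f = 5) (hr : r ∈ R)
    (hc : f * r = r * f) : r = 1 ∨ r = z := by
  have hm : r ∈ zpowers (f * z) := by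
    rw [← centralizer_five H hf, mem_centralizer_singleton_iff]; exact hc.symm
  obtain ⟨i, hi⟩ := mem_zpowers_iff.1 hm
  have h5 : ((f * z) ^ i) ^ 5 = z ^ (5 * i) := by
    rw [← zpow_natCast, ← zpow_mul, mul_comm, (show Commute f z from H.central f).mul_zpow, zpow_mul,
      zpow_natCast, show f ^ 5 = 1 by rw [← hf, pow_orderOf_eq_one], one_zpow, one_mul]
    push_cast
    rfl
  have hr2 : r * r = 1 := by
    have h1 : orderOf r ∣ 10 := by
      rw [← order_fz H hf, ← hi]; exact orderOf_dvd_of_pow_eq_one (by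
        rw [← zpow_natCast, ← zpow_mul, mul_comm, zpow_mul, zpow_natCast, pow_orderOf_eq_one, one_zpow])
    obtain ⟨k, hk⟩ := hR ⟨r, hr⟩
    have h2 : orderOf r ∣ 2 ^ k := orderOf_dvd_of_pow_eq_one (congrArg Subtype.val hk)
    obtain ⟨j, -, hj⟩ := (Nat.dvd_prime_pow Nat.prime_two).1 h2
    rw [hj] at h1
    have h10 := Nat.le_of_dvd (by norm_num) h1
    have hj4 : j < 4 := by
      by_contra hlt
      have : 2 ^ 4 ≤ 2 ^ j := Nat.pow_le_pow_right (by norm_num) (by omega)
      omega
    rw [← pow_two, ← orderOf_dvd_iff_pow_eq_one, hj]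
    interval_cases j <;> first | (exfalso; omega) | norm_num
  have h5r : r ^ 5 = r := by
    rw [pow_succ, show r ^ 4 = (r * r) * (r * r) by simp [pow_succ, mul_assoc], hr2, one_mul, one_mul]
  rw [← hi] at h5r
  rw [h5] at h5r
  rcases Int.even_or_odd (5 * i) with ⟨m, hm⟩ | ⟨m, hm⟩
  · left
    rw [← hi, ← h5r, hm, ← two_mul, zpow_mul, zpow_two, show z * z = 1 by
      rw [← pow_two, ← H.invol, pow_orderOf_eq_one], one_zpow]
  · right
    rw [← hi, ← h5r, hm, zpow_add, zpow_mul, zpow_two, show z * z = 1 by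
      rw [← pow_two, ← H.invol, pow_orderOf_eq_one], one_zpow, one_mul, zpow_one]

omit H in
/-- A quotient by a maximal normal subgroup is simple. -/
theorem exists_simple_quotient (N : Type*) [Group N] [Finite N] [Nontrivial N] :
    ∃ (K : Subgroup N) (_ : K.Normal), K ≠ ⊤ ∧ IsSimpleGroup (N ⧸ K) := by
  obtain ⟨K, ⟨hK, hKt⟩, hmax⟩ := Set.Finite.exists_maximal
    (s := {K : Subgroup N | K.Normal ∧ K ≠ ⊤}) (Set.toFinite _) ⟨⊥, inferInstance, bot_ne_top⟩
  haveI := hK
  haveI : Nontrivial (N ⧸ K) := QuotientGroup.nontrivial_iff.2 hKt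
  refine ⟨K, hK, hKt, ⟨fun L hL => ?_⟩⟩
  have hs := QuotientGroup.mk'_surjective K
  by_cases hT : L.comap (QuotientGroup.mk' K) = ⊤
  · right
    rw [← map_comap_eq_self_of_surjective hs L, hT, map_top_of_surjective _ hs]
  · left
    have hle : K ≤ L.comap (QuotientGroup.mk' K) := fun x hx => by
      rw [mem_comap, show QuotientGroup.mk' K x = 1 from (QuotientGroup.eq_one_iff x).2 hx]
      exact L.one_mem
    rw [← map_comap_eq_self_of_surjective hs L,
      le_antisymm (hmax ⟨hL.comap _, hT⟩ hle) hle, QuotientGroup.map_mk'_self]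

/-- A normal subgroup strictly containing the core for the prime two has index at most two. -/
theorem normal_card {M : Subgroup C} [M.Normal] (hle : pCore 2 C < M) :
    Nat.card M = 960 ∨ Nat.card M = 1920 := by
  haveI : Fact (Nat.Prime 5) := ⟨by norm_num⟩
  haveI : Fact (Nat.Prime 3) := ⟨by norm_num⟩
  haveI : Fact (Nat.Prime 2) := ⟨Nat.prime_two⟩
  have hz : z ∈ M := hle.le (z_mem_core H)
  have hdvd : Nat.card M ∣ 2 ^ 7 * 15 := by
    have := M.card_subgroup_dvd_card
    rw [H.card] at this
    simpa using this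
  by_cases h5 : 5 ∣ Nat.card M
  · obtain ⟨⟨f, hfM⟩, hf⟩ := exists_prime_orderOf_dvd_card' (G := M) 5 h5
    rw [← orderOf_coe] at hf
    change orderOf f = 5 at hf
    have hfle : zpowers f ≤ M := zpowers_le.2 hfM
    have hsyl : Nat.card ↥(zpowers f) = 5 ^ (Nat.card C).factorization 5 := by
      rw [Nat.card_zpowers, hf, H.card, show (1920 : ℕ) = 5 ^ 1 * 384 by norm_num,
        Nat.factorization_mul (by norm_num) (by norm_num), Nat.Prime.factorization_pow (by norm_num)]
      simp [Nat.factorization_eq_zero_of_not_dvd (show ¬ 5 ∣ 384 by norm_num)]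
    have htop : normalizer (zpowers f : Set C) ⊔ M = ⊤ :=
      Sylow.normalizer_sup_eq_top' (Sylow.ofCard (zpowers f) hsyl) hfle
    have hc := card_mul_of_sup_eq_top htop
    rw [H.card, (card_norm_five H hf).1] at hc
    have hi20 : Nat.card ↥(normalizer (zpowers f : Set C) ⊓ M) ∣ 20 :=
      (card_norm_five H hf).1 ▸ Subgroup.card_dvd_of_le inf_le_left
    have h10 : 10 ∣ Nat.card ↥(normalizer (zpowers f : Set C) ⊓ M) := by
      rw [← order_fz H hf]
      refine (Nat.card_zpowers (f * z)) ▸ Subgroup.card_dvd_of_le (zpowers_le.2 ⟨?_, mul_mem hfM hz⟩)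
      refine mul_mem (le_normalizer (mem_zpowers f)) ?_
      change z ∈ normalizer (zpowers f : Set C)
      exact (by
        rw [mem_normalizer_iff]
        intro x
        rw [show z * x * z⁻¹ = x by rw [← H.central x, mul_inv_cancel_right]])
    obtain ⟨c, hc'⟩ := h10
    rw [hc'] at hi20 hc
    have hc2 : c ∣ 2 := Nat.dvd_of_mul_dvd_mul_left (by norm_num : 0 < 10) hi20
    have := Nat.le_of_dvd (by norm_num) hc2
    interval_cases c <;> simp at hc2 <;> omega
  · exfalso
    have h3 : 3 ∣ Nat.card M := by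
      by_contra h3
      have h2 : Nat.card M ∣ 2 ^ 7 := by
        refine (Nat.Coprime.dvd_mul_right ?_).1 hdvd
        exact Nat.Coprime.mul_right (k := Nat.card M) (m := 3) (n := 5)
          ((Nat.prime_three.coprime_iff_not_dvd.2 h3).symm)
          (((by norm_num : Nat.Prime 5).coprime_iff_not_dvd.2 h5).symm)
      obtain ⟨j, -, hj⟩ := (Nat.dvd_prime_pow Nat.prime_two).1 h2
      exact hle.not_ge (le_pCore (IsPGroup.of_card hj))
    obtain ⟨P⟩ : Nonempty (Sylow 3 M) := inferInstance
    have hP : Nat.card ↥((P : Subgroup M).map M.subtype) = 3 := by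
      rw [card_map_of_injective M.subtype_injective, P.card_eq_multiplicity]
      have hk : (Nat.card M).factorization 3 = 1 := by
        refine le_antisymm ?_ ((Nat.prime_three.dvd_iff_one_le_factorization Nat.card_pos.ne').1 h3)
        refine ((Nat.factorization_le_iff_dvd Nat.card_pos.ne' (by norm_num)).2 hdvd 3).trans ?_
        rw [show (2 ^ 7 * 15 : ℕ) = 3 ^ 1 * 640 by norm_num, Nat.factorization_mul (by norm_num) (by norm_num),
          Nat.Prime.factorization_pow Nat.prime_three]
        simp [Nat.factorization_eq_zero_of_not_dvd (show ¬ 3 ∣ 640 by norm_num)]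
      rw [hk, pow_one]
    set T := (P : Subgroup M).map M.subtype with hT
    have hc := card_mul_of_sup_eq_top (Sylow.normalizer_sup_eq_top P)
    rw [H.card] at hc
    have h5N : 5 ∣ Nat.card ↥(normalizer (T : Set C)) := by
      have : 5 ∣ Nat.card ↥(normalizer (T : Set C)) * Nat.card M := hc ▸ Dvd.dvd.mul_right (by norm_num) _
      exact ((by norm_num : Nat.Prime 5).dvd_mul.1 this).resolve_right h5
    obtain ⟨⟨f, hfN⟩, hf⟩ := exists_prime_orderOf_dvd_card' (G := ↥(normalizer (T : Set C))) 5 h5N
    rw [← orderOf_coe] at hf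
    change orderOf f = 5 at hf
    obtain ⟨⟨t, htT⟩, ht⟩ := exists_prime_orderOf_dvd_card' (G := T) 3 (dvd_of_eq hP.symm)
    rw [← orderOf_coe] at ht
    change orderOf t = 3 at ht
    have hTt : zpowers t = T :=
      Subgroup.eq_of_le_of_card_ge (zpowers_le.2 htT) (by rw [hP, Nat.card_zpowers, ht])
    -- conjugation by `f` fixes `t`
    have hmem : f * t * f⁻¹ ∈ zpowers t := by rw [hTt]; exact (mem_normalizer_iff.1 hfN t).1 htT
    obtain ⟨i, hi⟩ := mem_zpowers_iff.1 hmem
    have hiter : ∀ n : ℕ, f ^ n * t * (f ^ n)⁻¹ = t ^ (i ^ n) := by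
      intro n
      induction n with
      | zero => simp
      | succ n ih =>
        calc f ^ (n + 1) * t * (f ^ (n + 1))⁻¹ = f * (f ^ n * t * (f ^ n)⁻¹) * f⁻¹ := by
              rw [pow_succ']; group
          _ = (f * t * f⁻¹) ^ (i ^ n) := by rw [ih, conj_zpow]
          _ = t ^ (i ^ (n + 1)) := by rw [← hi, ← zpow_mul, pow_succ']
    have h55 := hiter 5
    rw [show f ^ 5 = 1 by rw [← hf, pow_orderOf_eq_one], one_mul, inv_one, mul_one] at h55
    have hmod : (i : ZMod 3) ^ 5 = 1 := by
      have h1 : t ^ (1 : ℤ) = t ^ (i ^ 5) := by rw [zpow_one]; exact h55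
      rw [zpow_eq_zpow_iff_modEq, ht, ← ZMod.intCast_eq_intCast_iff] at h1
      simpa using h1.symm
    have hfix : f * t * f⁻¹ = t := by
      rw [← hi]
      conv_rhs => rw [← zpow_one t]
      rw [zpow_eq_zpow_iff_modEq, ht, ← ZMod.intCast_eq_intCast_iff]
      simpa using zmod_three_fifth _ hmod
    have h10 : orderOf t ∣ 10 := by
      rw [← (card_norm_five H hf).2, ← Nat.card_zpowers t]
      refine Subgroup.card_dvd_of_le (zpowers_le.2 ?_)
      rw [mem_centralizer_singleton_iff]
      calc t * f = (f * t * f⁻¹) * f := by rw [hfix]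
        _ = f * t := by group
    rw [ht] at h10
    norm_num at h10

/-- The fixed points of an element of order five on the core give the order of the core. -/
theorem core_card_mod {R : Subgroup C} [R.Normal] (hR : IsPGroup 2 R) (hz : z ∈ R) : Nat.card R % 5 = 2 := by
  classical
  haveI : Fact (Nat.Prime 5) := ⟨by norm_num⟩
  obtain ⟨f, hf⟩ := exists_five H
  letI : MulAction ↥(zpowers f) R := MulAction.compHom R
    ((MulAut.conjNormal (H := R)).comp (zpowers f).subtype)
  have hP : IsPGroup 5 ↥(zpowers f) := IsPGroup.of_card (n := 1) (by rw [Nat.card_zpowers, hf]; norm_num)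
  have h := hP.card_modEq_card_fixedPoints R
  have hact : ∀ (g : ↥(zpowers f)) (r : R), ((g • r : R) : C) = (g : C) * r * (g : C)⁻¹ := fun g r => by
    rw [MulAction.compHom_smul_def]
    exact MulAut.conjNormal_apply _ _
  have hfix : MulAction.fixedPoints ↥(zpowers f) R = {1, ⟨z, hz⟩} := by
    ext r
    simp only [MulAction.mem_fixedPoints, Set.mem_insert_iff, Set.mem_singleton_iff, Subtype.ext_iff]
    constructor
    · intro hr
      refine (fixed_five H hR hf r.2 ?_).imp id id
      have := hact ⟨f, mem_zpowers f⟩ r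
      rw [Subtype.ext (hr _)] at this
      calc f * (r : C) = (f * r * f⁻¹) * f := by group
        _ = r * f := by rw [← this]
    · intro hr g
      rw [hact]
      rcases hr with hr | hr <;> rw [hr]
      · simp
      · rw [H.central, mul_inv_cancel_right]
  rw [hfix, Nat.card_coe_set_eq, Set.ncard_pair (by
    intro he
    have := congrArg orderOf (congrArg Subtype.val he)
    simp [H.invol] at this)] at h
  exact h

/-- The shape of the group. -/
theorem cent_shape : Nat.card ↥(pCore 2 C) = 32 ∧
    ∃ _ : (pCore 2 C).Normal, Nonempty ((C ⧸ pCore 2 C) ≃* ↥(alternatingGroup (Fin 5))) := by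
  haveI : Fact (Nat.Prime 2) := ⟨Nat.prime_two⟩
  haveI hRn : (pCore 2 C).Normal := (pCore_normal_and_isPGroup 2).1
  have hR := isPGroup_pCore (G := C) 2
  obtain ⟨k, hk⟩ := IsPGroup.iff_card.1 hR
  have hmod := core_card_mod H hR (z_mem_core H)
  have hmul := (pCore 2 C).card_mul_index
  rw [H.card, hk] at hmul
  rw [hk] at hmod
  have hk7 : k ≤ 7 := by
    have h1 : 2 ^ k ∣ 2 ^ 7 := by
      have : 2 ^ k ∣ 2 ^ 7 * 15 := ⟨_, hmul.symm⟩
      exact (Nat.Coprime.pow_left k (by norm_num : Nat.Coprime 2 15)).dvd_of_dvd_mul_right this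
    exact (Nat.pow_dvd_pow_iff_le_right (by norm_num)).1 h1
  have hQcard : ∀ N : Subgroup (C ⧸ pCore 2 C), N.Normal → N ≠ ⊥ →
      Nat.card N * 2 ^ k = 960 ∨ Nat.card N * 2 ^ k = 1920 := by
    intro N hN hne
    have hc : Nat.card ↥(N.comap (QuotientGroup.mk' (pCore 2 C))) = Nat.card N * 2 ^ k := by
      have h1 := (N.comap (QuotientGroup.mk' (pCore 2 C))).card_mul_index
      rw [index_comap_of_surjective _ (QuotientGroup.mk'_surjective _)] at h1
      have h2 := N.card_mul_index
      have h3 : Nat.card C = Nat.card (C ⧸ pCore 2 C) * 2 ^ k := by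
        rw [← hk]; exact (pCore 2 C).card_eq_card_quotient_mul_card_subgroup
      rw [h3, ← h2] at h1
      refine Nat.eq_of_mul_eq_mul_right (Nat.pos_of_ne_zero N.index_ne_zero_of_finite) (h1.trans ?_)
      ring
    rw [← hc]
    haveI := hN
    refine normal_card H (lt_of_le_of_ne (fun x hx => ?_) fun e => hne ?_)
    · rw [mem_comap, show QuotientGroup.mk' (pCore 2 C) x = 1 from (QuotientGroup.eq_one_iff x).2 hx]
      exact N.one_mem
    · rw [← map_comap_eq_self_of_surjective (QuotientGroup.mk'_surjective (pCore 2 C)) N, ← e,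
        QuotientGroup.map_mk'_self]
  have hQ : Nat.card (C ⧸ pCore 2 C) * 2 ^ k = 1920 := by
    rw [← hk, ← (pCore 2 C).card_eq_card_quotient_mul_card_subgroup, H.card]
  have hk15 : k = 1 ∨ k = 5 := by interval_cases k <;> simp at hmod ⊢
  rcases hk15 with rfl | rfl
  · exfalso
    norm_num at hQcard hQ
    haveI : Nontrivial (C ⧸ pCore 2 C) := Finite.one_lt_card_iff_nontrivial.1 (by omega)
    obtain ⟨N, hN, -, hne, hmin⟩ := Cfsg.Lib.CITExt.exists_minimal_normal
      (normal_top : (⊤ : Subgroup (C ⧸ pCore 2 C)).Normal) top_ne_bot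
    haveI := hN
    have hNc := hQcard N hN hne
    haveI : Nontrivial ↥N := N.nontrivial_iff_ne_bot.2 hne
    have hcore : pCore 2 (C ⧸ pCore 2 C) = ⊥ := Cfsg.Lib.HallHigman.pCore_quotient_pCore
    have hperf : commutator ↥N = ⊤ := by
      rcases hmin ((commutator ↥N).map N.subtype) inferInstance (map_subtype_le _) with e | e
      · exfalso
        rw [map_eq_bot_iff_of_injective _ N.subtype_injective] at e
        haveI : IsMulCommutative ↥N := ⟨⟨fun a b => by
          have h1 : ⁅a, b⁆ ∈ commutator ↥N := by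
            rw [_root_.commutator_def]; exact commutator_mem_commutator (mem_top a) (mem_top b)
          rw [e, mem_bot, commutatorElement_eq_one_iff_mul_comm] at h1
          exact h1⟩⟩
        let P : Sylow 2 ↥N := Classical.arbitrary _
        haveI : (P : Subgroup ↥N).Characteristic := Sylow.characteristic_of_normal P inferInstance
        haveI : ((P : Subgroup ↥N).map N.subtype).Normal := inferInstance
        have h1 : (P : Subgroup ↥N).map N.subtype = ⊥ := le_bot_iff.1 (hcore ▸ le_pCore (P.2.map _))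
        exact P.ne_bot_of_dvd_card (by omega) ((map_eq_bot_iff_of_injective _ N.subtype_injective).1 h1)
      · apply map_injective N.subtype_injective
        rw [e, ← MonoidHom.range_eq_map, N.range_subtype]
    obtain ⟨K, hK, hKt, hsimp⟩ := exists_simple_quotient ↥N
    have hnc : ¬ IsMulCommutative (↥N ⧸ K) := fun hc => hKt <| by
      rw [eq_top_iff, ← hperf, _root_.commutator_def, commutator_le]
      intro a _ b _
      rw [← QuotientGroup.eq_one_iff, ← QuotientGroup.mk'_apply, map_commutatorElement,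
        commutatorElement_eq_one_iff_mul_comm]
      exact hc.1.1 _ _
    have hlag := K.card_eq_card_quotient_mul_card_subgroup
    have h60 : Nat.card (↥N ⧸ K) = 60 := by
      have hle : Nat.card (↥N ⧸ K) ≤ 1092 := by
        have := Nat.le_of_dvd Nat.card_pos (Dvd.intro _ hlag.symm)
        omega
      rcases Cfsg.Agent.S0496.result hnc hle with h | h | h | h | h | h
      · exact h
      all_goals
        exfalso
        have h960 : Nat.card ↥N ∣ 960 := by
          rcases hNc with e | e
          · exact ⟨2, by omega⟩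
          · exact ⟨1, by omega⟩
        have := (Dvd.intro _ hlag.symm).trans h960
        rw [h] at this
        norm_num at this
    obtain ⟨j, hj⟩ : ∃ j : ℕ, Nat.card K = 2 ^ j := by
      rw [h60] at hlag
      rcases hNc with e | e
      · exact ⟨3, by omega⟩
      · exact ⟨4, by omega⟩
    have hKb : K = ⊥ := by
      have h1 : (pCore 2 ↥N).map N.subtype = ⊥ := by
        haveI : (pCore 2 ↥N).Characteristic := pCore_characteristic
        exact le_bot_iff.1 (hcore ▸ le_pCore ((isPGroup_pCore 2).map _))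
      rw [map_eq_bot_iff_of_injective _ N.subtype_injective] at h1
      exact le_bot_iff.1 (h1 ▸ le_pCore (IsPGroup.of_card hj))
    rw [h60, hKb, card_bot, mul_one] at hlag
    omega
  · norm_num at hQcard hQ
    have h60 : Nat.card (C ⧸ pCore 2 C) = 60 := by omega
    refine ⟨by rw [hk]; norm_num, hRn, SixtyGroup.iso_alt_five (SixtyGroup.simple_of_sixty h60 fun N hN hmem => ?_) h60⟩
    simp only [Finset.mem_insert, Finset.mem_singleton] at hmem
    by_cases hne : N = ⊥
    · rw [hne, card_bot] at hmem; omega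
    · have := hQcard N hN hne; omega

end Cfsg.Lib.J3Order
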